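import Cfsg.Agent.LyOut.Base

/-!
Every automorphism of the presented Lyons group is inner.
-/

set_option autoImplicit false
set_option maxRecDepth 100000
set_option Elab.async false

namespace Cfsg.Lib.LyOut

open Cfsg.Spor Cfsg.Lib.LyPres Equiv
open Cfsg.Lib.LyPres.Eleven (gPerm wPerm wPerm_append wPerm_cons evN imgsN evN_spec sign_wPerm)

attribute [local irreducible] one111 let111 rho111 mul1

theorem letters :
    eightOK hWord = true ∧ eightOK (winv hWord) = true ∧ eightOK hpWord = true ∧ eightOK (winv hpWord) = true ∧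
    nineOK secW = true ∧ nineOK backW = true ∧ (∀ j, nineOK (oddA.getD j []) = true) ∧
    nineOK (tauMap (oddA.getD 0 [])) = true ∧ (∀ j, nineOK (oddB.getD j []) = true) ∧
    nineOK (tauMap (oddB.getD 0 [])) = true ∧
    ∀ j, nineOK (pinW.getD j ([], [])).1 = true ∧ nineOK (qW j) = true := by
  have h := letters_ok
  simp only [Bool.and_eq_true] at h
  obtain ⟨⟨⟨⟨⟨⟨⟨⟨⟨⟨⟨⟨a, b⟩, c⟩, d⟩, e⟩, f⟩, -⟩, -⟩, hA⟩, hA'⟩, hB⟩, hB'⟩, hp⟩ := h
  have key : ∀ l : List (List ℕ), l.all nineOK = true → ∀ j, nineOK (l.getD j []) = true := by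
    intro l hl j
    rcases Nat.lt_or_ge j l.length with hj | hj
    · rw [List.getD_eq_getElem _ _ hj]; exact List.all_eq_true.1 hl _ (List.getElem_mem hj)
    · rw [List.getD_eq_default _ _ hj]; rfl
  refine ⟨a, b, c, d, e, f, key _ hA, hA', key _ hB, hB', fun j => ?_⟩
  rw [qW]
  rcases Nat.lt_or_ge j pinW.length with hj | hj
  · rw [List.getD_eq_getElem _ _ hj]
    simpa [Bool.and_eq_true] using List.all_eq_true.1 hp _ (List.getElem_mem hj)
  · rw [List.getD_eq_default _ _ hj]; exact ⟨rfl, rfl⟩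

theorem wval_of_m7 {u w : List ℕ} (hu : (u.all fun l => Nat.blt l 18) = true)
    (hw : (w.all fun l => Nat.blt l 18) = true) (h : (m7 u == m7 w) = true) : wval fgen u = wval fgen w := by
  refine rho7_injective (Units.ext ?_)
  rw [rho7_wval u (lt18 hu), rho7_wval w (lt18 hw), beq_iff_eq.1 h]

theorem eF_four : eF [0, 0, 0, 0] = tL := by
  rw [eF, tL]
  congr 1

/-- The conjugate of the involution in its centraliser. -/
noncomputable def tTwo : Spor.Ly := eF hWord * tL * (eF hWord)⁻¹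

theorem tTwo_mem : ∃ h : tTwo ∈ Dt, fD ⟨tTwo, h⟩ = wPerm secW := by
  obtain ⟨d, hd, hf⟩ := modEq_sound sec_ok letters.2.2.2.2.1
  rw [wG_append, wG_append, val_fW letters.1, val_fW letters.2.1, tWord_val, eF_winv, ← mul_assoc] at hd
  have hd' : (d : Spor.Ly) = tTwo := hd
  refine ⟨hd' ▸ d.2, ?_⟩
  rw [← hf]
  exact congrArg fD (Subtype.ext hd'.symm)

theorem tTwo_mul : tTwo * tL = eF hpWord * tL * (eF hpWord)⁻¹ := by
  have h := congrArg toLy (wval_of_m7 (by decide +kernel) (by decide +kernel) hp_ok)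
  change eF _ = eF _ at h
  rw [eF_append, eF_append, eF_append, eF_append, eF_append, eF_winv, eF_winv, eF_four] at h
  exact h.symm

theorem back_mem : ∃ d : Dt, (d : Spor.Ly) = (eF hWord)⁻¹ * tL * eF hWord ∧ fD d = wPerm backW := by
  obtain ⟨d, hd, hf⟩ := modEq_sound back_ok letters.2.2.2.2.2.1
  rw [wG_append, wG_append, val_fW letters.1, val_fW letters.2.1, tWord_val, eF_winv, ← mul_assoc] at hd
  exact ⟨d, hd, hf⟩

/-- An automorphism seen through two conjugating elements. -/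
noncomputable def through (u v : Spor.Ly) (φ : MulAut Spor.Ly) : MulAut Spor.Ly :=
  MulAut.conj u⁻¹ * φ * MulAut.conj v

theorem through_apply (u v : Spor.Ly) (φ : MulAut Spor.Ly) (x : Spor.Ly) :
    through u v φ x = u⁻¹ * φ (v * x * v⁻¹) * u := by
  simp [through, MulAut.mul_apply]

theorem no_case {φ : MulAut Spor.Ly} (hφ : φ tL = tL) (hτ : Acts φ tau) {w : Spor.Ly} {W Wq Wr : List ℕ}
    (hw : φ tTwo = w * tL * w⁻¹) (hW : nineOK W = true) (hW' : nineOK (tauMap W) = true)
    (hq : ∃ d : Dt, (d : Spor.Ly) = (eF hWord)⁻¹ * liftW W * eF hWord ∧ fD d = wPerm Wq)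
    (hr : ∃ d : Dt, (d : Spor.Ly) = w⁻¹ * liftW (tauMap W) * w ∧ fD d = wPerm Wr)
    (hne : (wPerm (Wq ++ Wq)).support.card ≠ (wPerm (Wr ++ Wr)).support.card) : False := by
  obtain ⟨dq, hdq, hfq⟩ := hq
  obtain ⟨dr, hdr, hfr⟩ := hr
  have hψ : through w (eF hWord) φ tL = tL := by
    rw [through_apply, ← tTwo, hw]
    group
  obtain ⟨p, hp⟩ := exists_acts hψ
  have hM : φ (liftW W) * φ (liftW W) = (liftW (tauMap W) : Spor.Ly) * liftW (tauMap W) := by
    have e : fD ⟨φ (liftW W), fix_mem hφ (liftW W).2⟩ = fD (liftW (tauMap W)) := by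
      rw [hτ _ (liftW W).2, fD_liftW _ hW', wPerm_tauMap hW]
      congr 2
      exact fD_liftW _ hW
    rcases eq_or_of_fD e with e | e <;> rw [show φ (liftW W) = _ from e]
    rw [mul_assoc, ← mul_assoc tL, ← mem_Dt.1 (liftW (tauMap W)).2, mul_assoc, tL_sq, mul_one]
  have h2 : through w (eF hWord) φ ((dq * dq : Dt) : Spor.Ly) = ((dr * dr : Dt) : Spor.Ly) := by
    rw [Subgroup.coe_mul, Subgroup.coe_mul, hdq, hdr, through_apply,
      show eF hWord * ((eF hWord)⁻¹ * ↑(liftW W) * eF hWord * ((eF hWord)⁻¹ * ↑(liftW W) * eF hWord)) *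
        (eF hWord)⁻¹ = (liftW W : Spor.Ly) * liftW W by group, map_mul, hM]
    group
  have h3 := hp _ (dq * dq).2 (h2 ▸ (dr * dr).2)
  rw [show (⟨through w (eF hWord) φ ((dq * dq : Dt) : Spor.Ly), h2 ▸ (dr * dr).2⟩ : Dt) = dr * dr from
    Subtype.ext h2, map_mul, hfr, ← wPerm_append, show fD ⟨((dq * dq : Dt) : Spor.Ly), (dq * dq).2⟩ =
      wPerm (Wq ++ Wq) by rw [wPerm_append, ← hfq, ← map_mul]] at h3
  exact hne (by rw [h3, Perm.card_support_conj])

theorem no_tau {φ : MulAut Spor.Ly} (hφ : φ tL = tL) (hτ : Acts φ tau) : False := by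
  obtain ⟨h1, h1i, h2, h2i, -, -, hA, hA', hB, hB', -⟩ := letters
  obtain ⟨hm, hf⟩ := tTwo_mem
  have e : fD ⟨φ tTwo, fix_mem hφ hm⟩ = fD ⟨tTwo, hm⟩ := by rw [hτ _ hm, hf, tau_sec]
  rcases eq_or_of_fD e with e | e
  · exact no_case hφ hτ e (hA 0) hA' (cj_sound oddA_q h1 h1i (hA 0) (hA 1))
      (cj_sound oddA_r h1 h1i hA' (hA 2)) odd_supp.1
  · exact no_case hφ hτ (e.trans tTwo_mul) (hB 0) hB' (cj_sound oddB_q h1 h1i (hB 0) (hB 1))
      (cj_sound oddB_r h2 h2i hB' (hB 2)) odd_supp.2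

theorem perm_cases {p : Perm (Fin 11)} (h : ∀ j < 3, Commute p (wPerm (qW j))) : p = 1 ∨ p = wPerm backW := by
  have hflat : ∀ x, (pinPath.getD x (0, [])).2.all (fun j => Nat.blt j 3) = true → Commute p (wPerm (flatP x)) := by
    intro x hx
    rw [flatP]
    generalize (pinPath.getD x (0, [])).2 = l at hx
    induction l with
    | nil => exact Commute.one_right p
    | cons j l ih =>
      simp only [List.all_cons, Bool.and_eq_true, Nat.blt_eq] at hx
      rw [List.flatMap_cons, wPerm_append]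
      exact (h j hx.1).mul_right (ih hx.2)
  have hv : ∀ x : Fin 11, (p x).val = cand (p 0).val (p 1).val x.val := by
    intro x
    have hx := List.all_eq_true.1 pin_path x.val (List.mem_range.2 x.isLt)
    simp only [Bool.and_eq_true, Nat.blt_eq, beq_iff_eq] at hx
    obtain ⟨⟨⟨hn, hk⟩, hj⟩, he⟩ := hx
    have hc := hflat x.val hj
    have e1 : ∀ k : Fin 11, k.val = (pinPath.getD x.val (0, [])).1 → (p x).val = evN (flatP x.val) (p k).val := by
      intro k hk'
      have hx' : wPerm (flatP x.val) k = x := Fin.ext (by rw [evN_spec _ _ hn, hk', he])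
      conv_lhs => rw [← hx']
      rw [← Perm.mul_apply, hc.eq, Perm.mul_apply, evN_spec _ _ hn]
    rw [cand]
    rcases (show (pinPath.getD x.val (0, [])).1 = 0 ∨ (pinPath.getD x.val (0, [])).1 = 1 by omega) with h0 | h0 <;>
      rw [h0]
    · exact e1 0 h0.symm
    · exact e1 1 h0.symm
  have him : ∀ i < 11, ((List.range 11).map (cand (p 0).val (p 1).val)).getD i 0 = (p (Fin.ofNat 11 i)).val := by
    intro i hi
    rw [List.getD_eq_getElem _ _ (by simpa using hi), List.getElem_map, List.getElem_range]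
    refine Eq.trans ?_ (hv (Fin.ofNat 11 i)).symm
    rw [Fin.val_ofNat, Nat.mod_eq_of_lt hi]
  have hck := List.all_eq_true.1 (List.all_eq_true.1 pin_perm (p 0).val (List.mem_range.2 (p 0).isLt)) (p 1).val
    (List.mem_range.2 (p 1).isLt)
  simp only [Bool.or_eq_true, beq_iff_eq, Bool.not_eq_true'] at hck
  have hto : ∀ q : Perm (Fin 11), (∀ x : Fin 11, cand (p 0).val (p 1).val x.val = (q x).val) → p = q :=
    fun q hq => Equiv.ext fun x => Fin.ext ((hv x).trans (hq x))
  rcases hck with (e | e) | e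
  · refine Or.inl (hto 1 fun x => ?_)
    have := congrArg (fun l => l.getD x.val 0) e
    simp [x.isLt] at this
    simpa using this
  · refine Or.inr (hto _ fun x => ?_)
    rw [evN_spec _ _ letters.2.2.2.2.2.1]
    exact List.map_inj_left.1 e x.val (List.mem_range.2 x.isLt)
  · refine absurd ?_ (Bool.eq_false_iff.1 e)
    simp only [Bool.and_eq_true, decide_eq_true_eq, List.all_eq_true, List.mem_range, beq_iff_eq]
    refine ⟨List.Nodup.map_on (fun a ha b hb hab => ?_) List.nodup_range, fun x hx j hj => ?_⟩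
    · rw [List.mem_range] at ha hb
      have h2 : p ⟨a, ha⟩ = p ⟨b, hb⟩ := Fin.ext ((hv ⟨a, ha⟩).trans (hab.trans (hv ⟨b, hb⟩).symm))
      exact congrArg Fin.val (p.injective h2)
    · have hq := (letters.2.2.2.2.2.2.2.2.2.2 j).2
      have e1 : evN (qW j) x = (wPerm (qW j) ⟨x, hx⟩).val := (evN_spec _ ⟨x, hx⟩ hq).symm
      have e2 : Fin.ofNat 11 x = (⟨x, hx⟩ : Fin 11) := Fin.ext (Nat.mod_eq_of_lt hx)
      rw [e1, him _ (Fin.isLt _), him _ hx, e2, Fin.ofNat_val_eq_self, ← evN_spec _ _ hq, ← Perm.mul_apply,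
        ← Perm.mul_apply, (h j hj).eq]

theorem fix_two {φ : MulAut Spor.Ly} (hφ : ∀ x ∈ Dt, φ x = x) :
    ∃ g : Spor.Ly, (∀ x ∈ Dt, (MulAut.conj g * φ) x = x) ∧
      ∀ x ∈ Dt, (MulAut.conj g * φ) (eF hWord * x * (eF hWord)⁻¹) = eF hWord * x * (eF hWord)⁻¹ := by
  obtain ⟨h1, h1i, -, -, -, -, -, -, -, -, hp'⟩ := letters
  have hψ : through (eF hWord) (eF hWord) φ tL = tL := by
    rw [through_apply, ← tTwo, hφ _ tTwo_mem.1, tTwo]
    group
  obtain ⟨p, hp⟩ := exists_acts hψ
  have hcomm : ∀ j < 3, Commute p (wPerm (qW j)) := by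
    intro j hj
    have hm : modEq (cjW hWord (pinW.getD j ([], [])).1) (pW (qW j)) = true := by
      interval_cases j
      exacts [pin_zero, pin_one, pin_two]
    obtain ⟨d, hd, hf⟩ := cj_sound hm h1 h1i (hp' j).1 (hp' j).2
    have e : through (eF hWord) (eF hWord) φ (d : Spor.Ly) = d := by
      rw [through_apply, hd,
        show eF hWord * ((eF hWord)⁻¹ * ↑(liftW (pinW.getD j ([], [])).1) * eF hWord) * (eF hWord)⁻¹ =
          (liftW (pinW.getD j ([], [])).1 : Spor.Ly) by group, hφ _ (liftW _).2]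
    have h := hp _ d.2 (e.symm ▸ d.2)
    rw [show (⟨through (eF hWord) (eF hWord) φ (d : Spor.Ly), e.symm ▸ d.2⟩ : Dt) = d from Subtype.ext e,
      hf] at h
    exact eq_mul_inv_iff_mul_eq.1 h |>.symm
  rcases perm_cases hcomm with rfl | rfl
  · refine ⟨1, fun x hx => by rw [map_one, one_mul, hφ x hx], fun x hx => ?_⟩
    have e := Acts.fixes hψ hp x hx
    rw [through_apply] at e
    rw [map_one, one_mul]
    calc φ (eF hWord * x * (eF hWord)⁻¹)
        = eF hWord * ((eF hWord)⁻¹ * φ (eF hWord * x * (eF hWord)⁻¹) * eF hWord) * (eF hWord)⁻¹ := by group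
      _ = _ := by rw [e]
  · obtain ⟨d, hd, hf⟩ := back_mem
    obtain ⟨hψ', hp1⟩ := hp.conj_mul hψ d
    rw [hf, back_sq] at hp1
    refine ⟨tL, fun x hx => ?_, fun x hx => ?_⟩
    · rw [MulAut.mul_apply, hφ x hx, MulAut.conj_apply, ← mem_Dt.1 hx, mul_inv_cancel_right]
    · have e := Acts.fixes hψ' hp1 x hx
      rw [MulAut.mul_apply, MulAut.conj_apply, through_apply, hd] at e
      rw [MulAut.mul_apply, MulAut.conj_apply]
      conv_rhs => rw [← e]
      group

theorem fix_all {φ : MulAut Spor.Ly} (hφ : ∀ x ∈ Dt, φ x = x)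
    (hφ' : ∀ x ∈ Dt, φ (eF hWord * x * (eF hWord)⁻¹) = eF hWord * x * (eF hWord)⁻¹) : φ = 1 := by
  have hcent : ∀ s : List ℕ, (s.all fun l => Nat.blt l 18) = true →
      (m7 ([0, 0, 0, 0] ++ s) == m7 (s ++ [0, 0, 0, 0])) = true → eF s ∈ Dt := by
    intro s hs h
    have h' := congrArg toLy (wval_of_m7 (by rw [List.all_append, hs]; rfl) (by rw [List.all_append, hs]; rfl) h)
    change eF _ = eF _ at h'
    rw [eF_append, eF_append, eF_four] at h'
    exact mem_Dt.2 h'.symm
  let S : Subgroup Spor.Ly := φ.toMonoidHom.eqLocus (MonoidHom.id Spor.Ly)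
  have hS : ∀ x, x ∈ S ↔ φ x = x := fun x => Iff.rfl
  have ha : eF [0] ∈ S := hφ _ (hcent [0] rfl (by decide +kernel))
  have hgen : ∀ g ∈ [1, 2, 3], eF [2 * g] ∈ S := by
    intro g hg
    have hv := via_ok
    simp only [Bool.and_eq_true, beq_iff_eq, List.all_eq_true] at hv
    obtain ⟨⟨g', s⟩, hmem, rfl⟩ := List.mem_map.1 (hv.1.symm ▸ hg : g ∈ viaCent.map Prod.fst)
    obtain ⟨⟨hlen, heq⟩, hs⟩ := hv.2 _ hmem
    have hsD : ∀ i < 4, eF (s.getD i []) ∈ Dt := by
      intro i hi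
      have hm : s.getD i [] ∈ s := by
        rw [List.getD_eq_getElem _ _ (hlen ▸ hi)]; exact List.getElem_mem _
      exact hcent _ (List.all_eq_true.2 (hs _ hm).1) (beq_iff_eq.2 (hs _ hm).2)
    have hw18 : ((viaW s).all fun l => Nat.blt l 18) = true := by
      have hs' : ∀ i < 4, ((s.getD i []).all fun l => Nat.blt l 18) = true := by
        intro i hi
        refine List.all_eq_true.2 (hs _ ?_).1
        rw [List.getD_eq_getElem _ _ (hlen ▸ hi)]; exact List.getElem_mem _
      have hwi : ∀ w : List ℕ, (w.all fun l => Nat.blt l 18) = true →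
          ((winv w).all fun l => Nat.blt l 18) = true := by
        intro w hw
        simp only [winv, List.all_reverse, List.all_map, List.all_eq_true, Function.comp_apply, Nat.blt_eq] at hw ⊢
        intro l hl
        have := hw l hl
        cases hb : l % 2 == 0 <;> simp only [cond_false, cond_true]
        · omega
        · rw [beq_iff_eq] at hb; omega
      have hh : ((hWord).all fun l => Nat.blt l 18) = true := by decide +kernel
      simp only [viaW, List.all_append, hs' 0 (by norm_num), hs' 1 (by norm_num), hh, hwi _ hh,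
        hwi _ (hs' 2 (by norm_num)), hwi _ (hs' 3 (by norm_num)), Bool.and_self]
    have hg3 : g' ∈ [1, 2, 3] := hg
    have he := congrArg toLy (wval_of_m7 hw18 (by
      simp only [List.mem_cons, List.not_mem_nil, or_false] at hg3
      rcases hg3 with rfl | rfl | rfl <;> rfl) (beq_iff_eq.2 heq))
    change eF _ = eF _ at he
    rw [← he, show eF (viaW s) = eF (s.getD 0 []) * (eF hWord * eF (s.getD 1 []) * (eF hWord)⁻¹) *
        (eF (s.getD 2 []))⁻¹ * (eF hWord * (eF (s.getD 3 []))⁻¹ * (eF hWord)⁻¹) by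
      simp only [viaW, eF_append, eF_winv, mul_assoc]]
    exact mul_mem (mul_mem (mul_mem (hφ _ (hsD 0 (by norm_num))) (hφ' _ (hsD 1 (by norm_num))))
      (inv_mem (hφ _ (hsD 2 (by norm_num))))) (hφ' _ (inv_mem (hsD 3 (by norm_num))))
  have hKL : (KL : Set Spor.Ly) ⊆ S := by
    have hle : (⊤ : Subgroup F) ≤ S.comap toLy := by
      rw [← closure_four, Subgroup.closure_le]
      have e1 : ∀ k, eF [2 * k] = toLy (fgen k) := fun k => by simp [eF, wval]
      rintro _ (rfl | rfl | rfl | rfl) <;> show toLy _ ∈ S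
      · exact e1 0 ▸ ha
      · exact e1 1 ▸ hgen 1 (by simp)
      · exact e1 2 ▸ hgen 2 (by simp)
      · exact e1 3 ▸ hgen 3 (by simp)
    rintro _ ⟨f, rfl⟩
    exact hle (Subgroup.mem_top f)
  have hz : zL ∈ Dt := by
    have e : tL = zL * zL * (zL * zL) := by rw [z_sq, ← eF_four, ← map_mul, ← wval_append]; rfl
    rw [mem_Dt, e]
    simp only [mul_assoc]
  have htop : S = ⊤ := by
    rw [eq_top_iff, ← top_KL_z, Subgroup.closure_le, Set.union_subset_iff, Set.singleton_subset_iff]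
    exact ⟨hKL, hφ _ hz⟩
  refine MulEquiv.ext fun x => ?_
  show φ x = x
  exact (hS x).1 (htop ▸ Subgroup.mem_top x)

/-- Every automorphism is inner. -/
theorem all_inner (φ : MulAut Spor.Ly) : φ ∈ (MulAut.conj : Spor.Ly →* MulAut Spor.Ly).range := by
  have hin : ∀ (g : Spor.Ly) (ψ : MulAut Spor.Ly),
      MulAut.conj g * ψ ∈ (MulAut.conj : Spor.Ly →* MulAut Spor.Ly).range →
        ψ ∈ (MulAut.conj : Spor.Ly →* MulAut Spor.Ly).range :=
    fun g ψ h => (Subgroup.mul_mem_cancel_left _ (MonoidHom.mem_range.2 ⟨g, rfl⟩)).1 h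
  obtain ⟨g, hg⟩ := invol_conj (y := φ tL) (by rw [← map_mul, tL_sq, map_one])
    (fun h => tL_ne (φ.injective (h.trans (map_one φ).symm)))
  refine hin g⁻¹ φ ?_
  have h1 : (MulAut.conj g⁻¹ * φ) tL = tL := by
    rw [MulAut.mul_apply, MulAut.conj_apply, ← hg]
    group
  generalize MulAut.conj g⁻¹ * φ = φ₁ at h1 ⊢
  obtain ⟨p, hp⟩ := exists_acts h1
  rcases Int.units_eq_one_or (Perm.sign p) with hs | hs
  · obtain ⟨d, hd⟩ := fD_surjective (p := p⁻¹) (by rw [Perm.sign_inv, hs])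
    obtain ⟨h2, hp2⟩ := hp.conj_mul h1 d
    rw [hd, inv_mul_cancel] at hp2
    obtain ⟨g', h3, h4⟩ := fix_two (Acts.fixes h2 hp2)
    refine hin (d : Spor.Ly) φ₁ (hin g' _ ?_)
    rw [fix_all h3 h4]
    exact one_mem _
  · exfalso
    obtain ⟨d, hd⟩ := fD_surjective (p := tau * p⁻¹) (by rw [map_mul, Perm.sign_inv, hs, tau_sign]; rfl)
    obtain ⟨h2, hp2⟩ := hp.conj_mul h1 d
    rw [hd, inv_mul_cancel_right] at hp2
    exact no_tau h2 hp2

/-- The outer automorphism group is trivial. -/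
theorem card_out : Nat.card (MulAut Spor.Ly ⧸ (MulAut.conj : Spor.Ly →* MulAut Spor.Ly).range) = 1 := by
  show (MulAut.conj : Spor.Ly →* MulAut Spor.Ly).range.index = 1
  rw [Subgroup.index_eq_one, eq_top_iff]
  exact fun φ _ => all_inner φ

end Cfsg.Lib.LyOut
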