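import Mathlib.Init

/-!
Data for the automorphisms of the presented Lyons group: two conjugating elements of the subgroup on nine letters,
words in the nine generators of the double cover, and words giving b, c, d from two involution centralisers.
-/

set_option autoImplicit false

namespace Cfsg.Lib.LyOut

/-- An element carrying the involution to a commuting one. -/
def hWord : List Nat := [5,6,1,2,1,1,1,2,1,4,7,3,5,1,0]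

/-- An element carrying the involution to the product of the two. -/
def hpWord : List Nat := [5,0,2,4,6,3,4,6,3,4]

/-- The commuting involution in the double cover. -/
def secW : List Nat := [0,0,1,2,3,4,5,6,7,8,7,6,5,2,3,4,0,1,2,3,2,0,1,0]

/-- The first involution seen from the second. -/
def backW : List Nat := [2,3,4,5,6,7,2,3,4,5,6,0,1,2,3,4,5,0,1,2,3,4,0,0,1,2,3,2,0]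

/-- The images of the generators under a transposition. -/
def tauW : List (List Nat) := [[0],[1],[2],[3],[4],[5,6,5],[6],[6,7,6],[8]]

/-- The transposition. -/
def tauPts : Nat × Nat := (7, 8)

/-- An element of the common centraliser, its transfer and that of its image. -/
def oddA : List (List Nat) := [[5,6,7,8,5,6,7,6,5,4,1,2,1,0], [4,5,6,7,8,7,0,0,1,2,3,4,5,6,0,1,2,3,4,5,4,0,1,2,3,2,0,1,0,0], [2,3,4,5,6,7,5,6,4,5,2,3,4,2,3,0,1,2]]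

/-- The same for the other conjugating element. -/
def oddB : List (List Nat) := [[3,4,5,6,7,8,7,6,5,0,0,1,2,3,0,1,2,1,0], [7,2,3,4,5,6,4,5,0,0,1,2,3,4,2,3,1], [2,3,4,5,6,7,6,5,1,2,3,4,2,3,1,2]]

/-- Elements of the common centraliser with their transfers. -/
def pinW : List (List Nat × List Nat) := [([0,0,1,2,3,4,5,6,7,8,7,6,5,2,3,4,0,1,2,3,2,0,1,0], []), ([6,7,6,0,0,1,2,3,2], [4,5,6,7,8,4,5,6,7,4,5,6,5,3,4,0,1,2,0,0,1]), ([2,3,4,0,0,1,2], [0,1,2,3,4,5,6,7,8,0,1,2,3,4,5,6,7,6,5,0,0,1,2,3,4,0,0,1,2])]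

/-- Each point from one of two by the transfers. -/
def pinPath : List (Nat × List Nat) := [(0, []), (1, []), (1, [1,1]), (1, [1]), (1, [2]), (0, [2]), (1, [2,1,1]), (1, [2,1]), (1, [1,1,1]), (1, [1,2,1]), (0, [1,2])]

/-- The two points. -/
def pinReps : List Nat := [0,1]

/-- b, c and d from elements commuting with the involution. -/
def viaCent : List (Nat × List (List Nat)) := [(1, [[2,4,2,4,2,0,0,0,0,3,5,3,5,0,0,0,0,4,2,4,2,0,0,0,0,3,5,3,5,0,0,0,0,4,2,4,2,6,4,2,4,2,0,0,0,0,3,5,3,5,0,0,0,0,4,2,4,2,0,0,0,0,3,5,3,5,0,0,0,0,4,2,4,2,4,2,4,2,0,0,0,0,3,5,3,5,0,0,0,0,4,2,4,2,0,0,0,0,3,5,3,5,0,0,0,0,4,2,4,2,4,2,4,2,0,0,0,0,3,5,3,5,0,0,0,0,4,2,4,2,0,0,0,0,3,5,3,5,0,0,0,0,4,2,4,2,4,2,4,2,0,0,0,0,3,5,3,5,0,0,0,0,4,2,4,2,0,0,0,0,3,5,3,5,0,0,0,0,4,2,4,2],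 [0,0,4,2,4,2,0,0,0,0,3,5,3,5,0,0,0,0,4,2,4,2,0,0,0,0,3,5,3,5,0,0,0,0,4,2,4,2,0,4,2,4,2,0,0,0,0,3,5,3,5,0,0,0,0,4,2,4,2,0,0,0,0,3,5,3,5,0,0,0,0,4,2,4,2], [0,4,2,4,2,0,0,0,0,3,5,3,5,0,0,0,0,4,2,4,2,0,0,0,0,3,5,3,5,0,0,0,0,4,2,4,2,6,4,2,4,2,0,0,0,0,3,5,3,5,0,0,0,0,4,2,4,2,0,0,0,0,3,5,3,5,0,0,0,0,4,2,4,2,0,4,2,4,2,0,0,0,0,3,5,3,5,0,0,0,0,4,2,4,2,0,0,0,0,3,5,3,5,0,0,0,0,4,2,4,2,0,2], [2,2,2,0,2,2,4,2,4,2,0,0,0,0,3,5,3,5,0,0,0,0,4,2,4,2,0,0,0,0,3,5,3,5,0,0,0,0,4,2,4,2,0]]),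
  (2, [[0,0,2,0,4,2,4,2,0,0,0,0,3,5,3,5,0,0,0,0,4,2,4,2,0,0,0,0,3,5,3,5,0,0,0,0,4,2,4,2,4,2,4,2,0,0,0,0,3,5,3,5,0,0,0,0,4,2,4,2,0,0,0,0,3,5,3,5,0,0,0,0,4,2,4,2,4,2,4,2,0,0,0,0,3,5,3,5,0,0,0,0,4,2,4,2,0,0,0,0,3,5,3,5,0,0,0,0,4,2,4,2,0], [6,0,2,2,4,2,4,2,0,0,0,0,3,5,3,5,0,0,0,0,4,2,4,2,0,0,0,0,3,5,3,5,0,0,0,0,4,2,4,2], [2,4,2,4,2,0,0,0,0,3,5,3,5,0,0,0,0,4,2,4,2,0,0,0,0,3,5,3,5,0,0,0,0,4,2,4,2,4,2,4,2,0,0,0,0,3,5,3,5,0,0,0,0,4,2,4,2,0,0,0,0,3,5,3,5,0,0,0,0,4,2,4,2,6,4,2,4,2,0,0,0,0,3,5,3,5,0,0,0,0,4,2,4,2,0,0,0,0,3,5,3,5,0,0,0,0,4,2,4,2,6,0,6], [4,2,4,2,0,0,0,0,3,5,3,5,0,0,0,0,4,2,4,2,0,0,0,0,3,5,3,5,0,0,0,0,4,2,4,2,4,2,4,2,0,0,0,0,3,5,3,5,0,0,0,0,4,2,4,2,0,0,0,0,3,5,3,5,0,0,0,0,4,2,4,2,6,4,2,4,2,0,0,0,0,3,5,3,5,0,0,0,0,4,2,4,2,0,0,0,0,3,5,3,5,0,0,0,0,4,2,4,2,6,4,2,4,2,0,0,0,0,3,5,3,5,0,0,0,0,4,2,4,2,0,0,0,0,3,5,3,5,0,0,0,0,4,2,4,2,0]]),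
  (3, [[2,2,0,6,4,2,4,2,0,0,0,0,3,5,3,5,0,0,0,0,4,2,4,2,0,0,0,0,3,5,3,5,0,0,0,0,4,2,4,2,0,6], [4,2,4,2,0,0,0,0,3,5,3,5,0,0,0,0,4,2,4,2,0,0,0,0,3,5,3,5,0,0,0,0,4,2,4,2,4,2,4,2,0,0,0,0,3,5,3,5,0,0,0,0,4,2,4,2,0,0,0,0,3,5,3,5,0,0,0,0,4,2,4,2,4,2,4,2,0,0,0,0,3,5,3,5,0,0,0,0,4,2,4,2,0,0,0,0,3,5,3,5,0,0,0,0,4,2,4,2,0,2,0], [0,6,4,2,4,2,0,0,0,0,3,5,3,5,0,0,0,0,4,2,4,2,0,0,0,0,3,5,3,5,0,0,0,0,4,2,4,2,6,4,2,4,2,0,0,0,0,3,5,3,5,0,0,0,0,4,2,4,2,0,0,0,0,3,5,3,5,0,0,0,0,4,2,4,2,0,4,2,4,2,0,0,0,0,3,5,3,5,0,0,0,0,4,2,4,2,0,0,0,0,3,5,3,5,0,0,0,0,4,2,4,2], [0,2,2,2,2,0,4,2,4,2,0,0,0,0,3,5,3,5,0,0,0,0,4,2,4,2,0,0,0,0,3,5,3,5,0,0,0,0,4,2,4,2,4,2,4,2,0,0,0,0,3,5,3,5,0,0,0,0,4,2,4,2,0,0,0,0,3,5,3,5,0,0,0,0,4,2,4,2]])]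

end Cfsg.Lib.LyOut
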