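import Cfsg.Agent.LyPres.InvolCheck
import Cfsg.Agent.LyPres.Seven7
import Cfsg.Agent.LyPres.AltSylow
import Cfsg.Agent.LyOut.Data

/-!
The checks on the words: conjugates of elements of the double cover, products in degree seven and permutations.
-/

set_option autoImplicit false
set_option maxRecDepth 100000
set_option maxHeartbeats 4000000
set_option Elab.async false

namespace Cfsg.Lib.LyOut

open Cfsg.Lib.LyPres Equiv
open Cfsg.Lib.LyPres.Eleven (gPerm wPerm evN imgsN)

/-- A word in a, b, c, d as a word in the values of the program. -/
def fW (w : List ℕ) : List ℕ := w.map fun l => l + 1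

/-- A word in the nine elements as a word in the values of the program. -/
def pW (w : List ℕ) : List ℕ := w.flatMap gW

/-- Two products differ at most by the involution. -/
def modEq (u w : List ℕ) : Bool := sameW111 vInv u w || sameW111 vInv u (w ++ tWord)

/-- A conjugate of a product of the nine elements. -/
def cjW (h W : List ℕ) : List ℕ := fW (winv h) ++ (pW W ++ fW h)

/-- The letters are among the nine. -/
def nineOK (w : List ℕ) : Bool := w.all fun i => Nat.blt i 9

/-- The letters are among the first eight. -/
def eightOK (w : List ℕ) : Bool := w.all fun l => Nat.blt l 8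

/-- The image of a word under the transposition. -/
def tauMap (W : List ℕ) : List ℕ := W.flatMap fun i => tauW.getD i []

/-- The transposition. -/
def tau : Perm (Fin 11) := swap (Fin.ofNat 11 tauPts.1) (Fin.ofNat 11 tauPts.2)

/-- One of the transfers. -/
def qW (j : ℕ) : List ℕ := (pinW.getD j ([], [])).2

/-- The product of transfers leading to a point. -/
def flatP (x : ℕ) : List ℕ := (pinPath.getD x (0, [])).2.flatMap qW

/-- The image of a point under a map fixed by its values at the two points. -/
def cand (a b x : ℕ) : ℕ := evN (flatP x) (bif Nat.beq (pinPath.getD x (0, [])).1 0 then a else b)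

theorem letters_ok : (eightOK hWord && eightOK (winv hWord) && eightOK hpWord && eightOK (winv hpWord) &&
    nineOK secW && nineOK backW && tauW.all nineOK && Nat.beq tauW.length 9 &&
    oddA.all nineOK && nineOK (tauMap (oddA.getD 0 [])) &&
    oddB.all nineOK && nineOK (tauMap (oddB.getD 0 [])) &&
    pinW.all (fun p => nineOK p.1 && nineOK p.2)) = true := by decide +kernel

theorem sec_ok : modEq (fW hWord ++ (tWord ++ fW (winv hWord))) (pW secW) = true := by decide +kernel

theorem back_ok : modEq (fW (winv hWord) ++ (tWord ++ fW hWord)) (pW backW) = true := by decide +kernel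

theorem hp_ok : (m7 (hpWord ++ [0, 0, 0, 0] ++ winv hpWord) ==
    m7 (hWord ++ [0, 0, 0, 0] ++ winv hWord ++ [0, 0, 0, 0])) = true := by decide +kernel

theorem oddA_q : modEq (cjW hWord (oddA.getD 0 [])) (pW (oddA.getD 1 [])) = true := by decide +kernel

theorem oddA_r : modEq (cjW hWord (tauMap (oddA.getD 0 []))) (pW (oddA.getD 2 [])) = true := by decide +kernel

theorem oddB_q : modEq (cjW hWord (oddB.getD 0 [])) (pW (oddB.getD 1 [])) = true := by decide +kernel

theorem oddB_r : modEq (cjW hpWord (tauMap (oddB.getD 0 []))) (pW (oddB.getD 2 [])) = true := by decide +kernel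

theorem pin_zero : modEq (cjW hWord (pinW.getD 0 ([], [])).1) (pW (qW 0)) = true := by decide +kernel

theorem pin_one : modEq (cjW hWord (pinW.getD 1 ([], [])).1) (pW (qW 1)) = true := by decide +kernel

theorem pin_two : modEq (cjW hWord (pinW.getD 2 ([], [])).1) (pW (qW 2)) = true := by decide +kernel

theorem odd_supp :
    (wPerm (oddA.getD 1 [] ++ oddA.getD 1 [])).support.card ≠
      (wPerm (oddA.getD 2 [] ++ oddA.getD 2 [])).support.card ∧
    (wPerm (oddB.getD 1 [] ++ oddB.getD 1 [])).support.card ≠
      (wPerm (oddB.getD 2 [] ++ oddB.getD 2 [])).support.card := by decide +kernel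

theorem tau_gen : ∀ i : Fin 9, tau * gPerm i.val * tau⁻¹ = wPerm (tauW.getD i.val []) := by decide +kernel

theorem tau_sign : Perm.sign tau = -1 := by decide +kernel

theorem tau_sec : tau * wPerm secW * tau⁻¹ = wPerm secW := by decide +kernel

theorem back_sq : wPerm backW * wPerm backW = 1 := by decide +kernel

theorem pin_path : ((List.range 11).all fun x => nineOK (flatP x) && Nat.blt (pinPath.getD x (0, [])).1 2 &&
    (pinPath.getD x (0, [])).2.all (fun j => Nat.blt j 3) &&
    evN (flatP x) (pinPath.getD x (0, [])).1 == x) = true := by decide +kernel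

theorem pin_perm : ((List.range 11).all fun a => (List.range 11).all fun b =>
    let im := (List.range 11).map (cand a b)
    im == List.range 11 || im == imgsN backW ||
      !(decide im.Nodup && (List.range 11).all fun x => (List.range 3).all fun j =>
        im.getD (evN (qW j) x) 0 == evN (qW j) (im.getD x 0))) = true := by decide +kernel

/-- One element from four commuting with the involution. -/
def viaW (s : List (List ℕ)) : List ℕ :=
  s.getD 0 [] ++ (hWord ++ (s.getD 1 [] ++ (winv hWord ++ (winv (s.getD 2 []) ++
    (hWord ++ (winv (s.getD 3 []) ++ winv hWord))))))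

theorem via_ok : (viaCent.map Prod.fst == [1, 2, 3] && viaCent.all fun r =>
    r.2.length == 4 && m7 (viaW r.2) == m7 [2 * r.1] && r.2.all fun s =>
      s.all (fun l => Nat.blt l 18) && m7 ([0, 0, 0, 0] ++ s) == m7 (s ++ [0, 0, 0, 0])) = true := by decide +kernel

end Cfsg.Lib.LyOut
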