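import Cfsg.Agent.LyPres.InvolFus
import Cfsg.Agent.LyPres.Bound
import Cfsg.Agent.LyPres.Sub
import Cfsg.Agent.LyOut.Check
import Cfsg.Agent.SolvStruct.AltAut

/-!
An automorphism of the presented Lyons group fixing the involution permutes the eleven letters, and when it fixes
them all it fixes the double cover.
-/

set_option autoImplicit false
set_option maxRecDepth 100000
set_option Elab.async false

namespace Cfsg.Lib.LyOut

open Cfsg.Spor Cfsg.Lib.LyPres Equiv
open Cfsg.Lib.LyPres.Eleven (gPerm wPerm wPerm_append wPerm_cons)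

attribute [local irreducible] one111 let111 rho111 mul1

theorem mem_Dt {x : Spor.Ly} : x ∈ Dt ↔ x * tL = tL * x := by
  rw [card_cent.2, Subgroup.mem_centralizer_singleton_iff]

theorem fix_mem {φ : MulAut Spor.Ly} (hφ : φ tL = tL) {x : Spor.Ly} (hx : x ∈ Dt) : φ x ∈ Dt := by
  rw [mem_Dt, ← hφ, ← map_mul, ← map_mul, mem_Dt.1 hx]

theorem fD_tL : fD ⟨tL, tL_mem⟩ = 1 := fD_ker.2 (mem_Tn_iff.2 (Or.inr rfl))

theorem eq_or_of_fD {c d : Dt} (h : fD c = fD d) : (c : Spor.Ly) = d ∨ (c : Spor.Ly) = d * tL := by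
  have h1 : d⁻¹ * c ∈ Tn := fD_ker.1 (by rw [map_mul, map_inv, h, inv_mul_cancel])
  rcases mem_Tn_iff.1 h1 with e | e <;> simp only [Subgroup.coe_mul, InvMemClass.coe_inv] at e
  · exact Or.inl (inv_mul_eq_one.1 e).symm
  · exact Or.inr (by rw [← e, mul_inv_cancel_left])

/-- The map on eleven letters into the even permutations. -/
noncomputable def fA : Dt →* alternatingGroup (Fin 11) :=
  fD.codRestrict _ fun d => Perm.mem_alternatingGroup.2 (fD_even d)

theorem fA_surjective : Function.Surjective fA := by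
  rintro ⟨p, hp⟩
  obtain ⟨d, hd⟩ := fD_surjective (Perm.mem_alternatingGroup.1 hp)
  exact ⟨d, Subtype.ext hd⟩

theorem fA_ker {d : Dt} : d ∈ fA.ker ↔ fD d = 1 :=
  ⟨fun h => congrArg Subtype.val (MonoidHom.mem_ker.1 h), fun h => MonoidHom.mem_ker.2 (Subtype.ext h)⟩

/-- The automorphism permutes the letters by the given permutation. -/
def Acts (φ : MulAut Spor.Ly) (p : Perm (Fin 11)) : Prop :=
  ∀ (x : Spor.Ly) (hx : x ∈ Dt) (hy : φ x ∈ Dt), fD ⟨φ x, hy⟩ = p * fD ⟨x, hx⟩ * p⁻¹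

theorem exists_acts {φ : MulAut Spor.Ly} (hφ : φ tL = tL) : ∃ p, Acts φ p := by
  let f : Dt →* Dt :=
    { toFun := fun d => ⟨φ d, fix_mem hφ d.2⟩
      map_one' := Subtype.ext (map_one φ)
      map_mul' := fun a b => Subtype.ext (map_mul φ _ _) }
  have hiff : ∀ d : Dt, f d ∈ Tn ↔ d ∈ Tn := by
    intro d
    rw [mem_Tn_iff, mem_Tn_iff]
    show φ d = 1 ∨ φ d = tL ↔ _
    rw [EmbeddingLike.map_eq_one_iff]
    conv_lhs => rw [← hφ, φ.injective.eq_iff]
  have hker : ∀ d : Dt, d ∈ fA.ker → d ∈ (fA.comp f).ker := fun d hd => by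
    rw [MonoidHom.mem_ker]
    exact Subtype.ext (fD_ker.2 ((hiff d).2 (fD_ker.1 (fA_ker.1 hd))))
  let α : alternatingGroup (Fin 11) →* alternatingGroup (Fin 11) :=
    fA.liftOfSurjective fA_surjective ⟨fA.comp f, hker⟩
  have hα : ∀ d, α (fA d) = fA (f d) := fun d => MonoidHom.liftOfRightInverse_comp_apply fA _ _ _ d
  have hinj : Function.Injective α := by
    rw [injective_iff_map_eq_one]
    intro a ha
    obtain ⟨d, rfl⟩ := fA_surjective a
    rw [hα] at ha
    exact Subtype.ext (fD_ker.2 ((hiff d).1 (fD_ker.1 (congrArg Subtype.val ha))))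
  obtain ⟨s, hs⟩ := (Cfsg.Lib.SolvStruct.AltAut.conjNormal_bijective (n := 11) (by norm_num) (by norm_num)).2
    (MulEquiv.ofBijective α (Finite.injective_iff_bijective.1 hinj))
  refine ⟨s, fun x hx hy => ?_⟩
  have h := congrArg Subtype.val (DFunLike.congr_fun hs (fA ⟨x, hx⟩))
  rw [MulAut.conjNormal_apply] at h
  exact ((h.trans (congrArg Subtype.val (hα ⟨x, hx⟩)))).symm

theorem Acts.conj_mul {φ : MulAut Spor.Ly} {p : Perm (Fin 11)} (hφ : φ tL = tL) (h : Acts φ p) (d : Dt) :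
    (MulAut.conj (d : Spor.Ly) * φ) tL = tL ∧ Acts (MulAut.conj (d : Spor.Ly) * φ) (fD d * p) := by
  refine ⟨?_, fun x hx hy => ?_⟩
  · rw [MulAut.mul_apply, hφ, MulAut.conj_apply, mem_Dt.1 d.2, mul_inv_cancel_right]
  · have e : (⟨_, hy⟩ : Dt) = d * ⟨φ x, fix_mem hφ hx⟩ * d⁻¹ := Subtype.ext (MulAut.conj_apply _ _)
    rw [e, map_mul, map_mul, map_inv, h x hx]
    group

theorem Acts.fixes {φ : MulAut Spor.Ly} (hφ : φ tL = tL) (h : Acts φ 1) : ∀ x ∈ Dt, φ x = x := by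
  let e : Dt →* Dt :=
    { toFun := fun d => ⟨(d : Spor.Ly)⁻¹ * φ d, mul_mem (inv_mem d.2) (fix_mem hφ d.2)⟩
      map_one' := Subtype.ext (by simp)
      map_mul' := fun a b => by
        refine Subtype.ext ?_
        have hT : (⟨(a : Spor.Ly)⁻¹ * φ a, mul_mem (inv_mem a.2) (fix_mem hφ a.2)⟩ : Dt) ∈ Tn := fD_ker.1 (by
          rw [show (⟨(a : Spor.Ly)⁻¹ * φ a, mul_mem (inv_mem a.2) (fix_mem hφ a.2)⟩ : Dt) =
            a⁻¹ * ⟨φ a, fix_mem hφ a.2⟩ from rfl, map_mul, map_inv, h _ a.2]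
          group)
        have hc : (b : Spor.Ly)⁻¹ * ((a : Spor.Ly)⁻¹ * φ a) = ((a : Spor.Ly)⁻¹ * φ a) * (b : Spor.Ly)⁻¹ :=
          congrArg Subtype.val (Subgroup.mem_center_iff.1 (Tn_le_center hT) b⁻¹)
        show ((a : Spor.Ly) * b)⁻¹ * φ ((a : Spor.Ly) * b) = ((a : Spor.Ly)⁻¹ * φ a) * ((b : Spor.Ly)⁻¹ * φ b)
        rw [map_mul, mul_inv_rev, ← mul_assoc, mul_assoc (b : Spor.Ly)⁻¹, hc, mul_assoc] }
  have hmem : ∀ d, e d ∈ Tn := fun d => fD_ker.1 (by
    rw [show e d = d⁻¹ * ⟨φ d, fix_mem hφ d.2⟩ from rfl, map_mul, map_inv, h _ d.2]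
    group)
  have hker : ∀ d : Dt, d ∈ fA.ker → d ∈ e.ker := fun d hd => by
    rw [MonoidHom.mem_ker]
    refine Subtype.ext ?_
    show (d : Spor.Ly)⁻¹ * φ d = 1
    rcases mem_Tn_iff.1 (fD_ker.1 (fA_ker.1 hd)) with h1 | h1 <;> rw [h1]
    · simp
    · rw [hφ, inv_mul_cancel]
  let ε : alternatingGroup (Fin 11) →* Dt := fA.liftOfSurjective fA_surjective ⟨e, hker⟩
  have hε : ∀ d, ε (fA d) = e d := fun d => MonoidHom.liftOfRightInverse_comp_apply fA _ _ _ d
  have htop : ε.ker = ⊤ := by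
    have : IsSimpleGroup (alternatingGroup (Fin 11)) := alternatingGroup.isSimpleGroup (by simp)
    refine (ε.normal_ker.eq_bot_or_eq_top).resolve_left fun hb => ?_
    have h3 : qA ⟨0, by norm_num⟩ ^ 3 = 1 := Subtype.ext (qA_data.1 ⟨0, by norm_num⟩ rfl)
    obtain ⟨d, hd⟩ := fA_surjective (qA ⟨0, by norm_num⟩)
    have h2 : ε (qA ⟨0, by norm_num⟩) * ε (qA ⟨0, by norm_num⟩) = 1 := by
      rw [← hd, hε]
      refine Subtype.ext ?_
      show ((e d : Dt) : Spor.Ly) * (e d : Dt) = 1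
      rcases mem_Tn_iff.1 (hmem d) with h1 | h1 <;> rw [h1]
      · exact one_mul 1
      · exact tL_sq
    have h1 : ε (qA ⟨0, by norm_num⟩) = 1 := by
      have := congrArg ε h3
      rwa [map_pow, pow_succ, pow_two, h2, one_mul, map_one] at this
    have h0 : qA ⟨0, by norm_num⟩ = 1 := by
      have : qA ⟨0, by norm_num⟩ ∈ ε.ker := h1
      rwa [hb, Subgroup.mem_bot] at this
    exact qA_data.2.2.2.2 (congrArg Subtype.val h0)
  intro x hx
  have h1 : ((e ⟨x, hx⟩ : Dt) : Spor.Ly) = 1 := by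
    rw [← hε, show ε (fA ⟨x, hx⟩) = 1 from (htop ▸ Subgroup.mem_top _ : fA ⟨x, hx⟩ ∈ ε.ker)]
    rfl
  exact (inv_mul_eq_one.1 h1).symm

/-- An element of the subgroup on nine letters. -/
noncomputable def eF (w : List ℕ) : Spor.Ly := toLy (wval fgen w)

theorem eF_winv (w : List ℕ) : eF (winv w) = (eF w)⁻¹ := by rw [eF, wval_winv, map_inv, eF]

theorem eF_append (u w : List ℕ) : eF (u ++ w) = eF u * eF w := by rw [eF, wval_append, map_mul, eF, eF]

theorem val_fW : ∀ {w : List ℕ}, eightOK w = true → wG xInv (fW w) = eF w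
  | [], _ => by simp [fW, wG, eF, wval]
  | l :: w, h => by
    simp only [eightOK, List.all_cons, Bool.and_eq_true, Nat.blt_eq] at h
    have e : xInv.getD (l + 1) 1 = eF [l] := by
      rw [xInv, slpRunG_prefix _ _ _ (by simp [slpStartG]; omega)]
      have key : ∀ k < 4, toLy (fgen k) = g39 k := by
        intro k hk
        rw [toLy_gen (by omega), ly9]
        congr 1
        revert k; decide
      have hl := h.1
      interval_cases l <;> simp [slpStartG, List.range_succ, eF, wval, key]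
    have ih := val_fW (w := w) h.2
    rw [show l :: w = [l] ++ w from rfl, eF_append, fW, List.map_append, wG_append, ← fW, ← fW, ih, ← e]
    simp [fW, wG]

theorem val_pW : ∀ {w : List ℕ}, nineOK w = true → wG xInv (pW w) = (liftW w : Spor.Ly)
  | [], _ => rfl
  | i :: w, h => by
    simp only [nineOK, List.all_cons, Bool.and_eq_true, Nat.blt_eq] at h
    have ih := val_pW (w := w) h.2
    rw [pW, List.flatMap_cons, wG_append, ← pW, ih, show liftW (i :: w) = ⟨gE i, gE_mem h.1⟩ * liftW w by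
      simp [liftW, h.1]]
    rfl

theorem modEq_sound {u w : List ℕ} (h : modEq u (pW w) = true) (hw : nineOK w = true) :
    ∃ d : Dt, (d : Spor.Ly) = wG xInv u ∧ fD d = wPerm w := by
  rw [modEq, Bool.or_eq_true] at h
  rcases h with h | h
  · exact ⟨liftW w, ((sameX h).trans (val_pW hw)).symm, fD_liftW w hw⟩
  · refine ⟨liftW w * ⟨tL, tL_mem⟩, ?_, by rw [map_mul, fD_tL, mul_one, fD_liftW w hw]⟩
    rw [sameX h, wG_append, val_pW hw, tWord_val]
    rfl

theorem cj_sound {h W Wq : List ℕ} (hm : modEq (cjW h W) (pW Wq) = true) (h1 : eightOK h = true)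
    (h2 : eightOK (winv h) = true) (h3 : nineOK W = true) (h4 : nineOK Wq = true) :
    ∃ d : Dt, (d : Spor.Ly) = (eF h)⁻¹ * liftW W * eF h ∧ fD d = wPerm Wq := by
  obtain ⟨d, hd, hf⟩ := modEq_sound hm h4
  refine ⟨d, ?_, hf⟩
  rw [hd, cjW, wG_append, wG_append, val_fW h1, val_fW h2, val_pW h3, eF_winv, mul_assoc]

theorem wPerm_tauMap : ∀ {w : List ℕ}, nineOK w = true → wPerm (tauMap w) = tau * wPerm w * tau⁻¹
  | [], _ => by simp [tauMap, Eleven.wPerm]
  | i :: w, h => by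
    simp only [nineOK, List.all_cons, Bool.and_eq_true, Nat.blt_eq] at h
    have ih := wPerm_tauMap (w := w) h.2
    rw [tauMap, List.flatMap_cons, wPerm_append, ← tauMap, ih, ← tau_gen ⟨i, h.1⟩, wPerm_cons]
    group

end Cfsg.Lib.LyOut
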